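import Cfsg.Agent.Comp.L37.Pres

set_option autoImplicit false
set_option maxRecDepth 100000

namespace Cfsg.Agent.Comp.L37
open Cfsg.Agent.Comp

noncomputable def n0 : Net :=
(Net.cons (nat_lit 0x2177ec4) (nat_lit 29)
(Net.cons (nat_lit 0x121800032c6) (nat_lit 14)
(Net.cons (nat_lit 0x2200f00020064) (nat_lit 7)
(Net.cons (nat_lit 0x302060018201) (nat_lit 4)
(Net.cons (nat_lit 0x800000408110) (nat_lit 2)
(Net.cons (nat_lit 0x801280210095) (nat_lit 1)
(Net.cons (nat_lit 0x48902266244913) (nat_lit 2)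
(Net.cons (nat_lit 0x386081e18307) (nat_lit 4)
(Net.cons (nat_lit 0x2200a20184064) (nat_lit 7)
(Net.cons (nat_lit 0x121800032c6) (nat_lit 14)
(Net.cons (nat_lit 0x2177ec4) (nat_lit 29)
Net.nil)))))))))))

noncomputable def n1 : Net :=
(Net.cons (nat_lit 0x30f5403) (nat_lit 29)
(Net.cons (nat_lit 0xfb00003c93) (nat_lit 14)
(Net.cons (nat_lit 0x2c00180108002) (nat_lit 7)
(Net.cons (nat_lit 0x10100020804086) (nat_lit 4)
(Net.cons (nat_lit 0x40010240008800) (nat_lit 2)
(Net.cons (nat_lit 0x50a91222850a94) (nat_lit 1)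
(Net.cons (nat_lit 0x40080242004982) (nat_lit 2)
(Net.cons (nat_lit 0xc1810a1c08006) (nat_lit 4)
(Net.cons (nat_lit 0x1200e80194000) (nat_lit 7)
(Net.cons (nat_lit 0x26180001600) (nat_lit 14)
(Net.cons (nat_lit 0x10f9483) (nat_lit 29)
Net.nil)))))))))))

noncomputable def n2 : Net :=
(Net.cons (nat_lit 0x10f9483) (nat_lit 29)
(Net.cons (nat_lit 0x22180001600) (nat_lit 14)
(Net.cons (nat_lit 0x1200a80194000) (nat_lit 7)
(Net.cons (nat_lit 0x80800a1c08006) (nat_lit 4)
(Net.cons (nat_lit 0x40000244008802) (nat_lit 2)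
(Net.cons (nat_lit 0x50a91228844a94) (nat_lit 1)
(Net.cons (nat_lit 0x40110246004980) (nat_lit 2)
(Net.cons (nat_lit 0x14182020804086) (nat_lit 4)
(Net.cons (nat_lit 0x2c00980108002) (nat_lit 7)
(Net.cons (nat_lit 0xff00003c93) (nat_lit 14)
(Net.cons (nat_lit 0x30f5403) (nat_lit 29)
Net.nil)))))))))))

noncomputable def n3 : Net :=
(Net.cons (nat_lit 0xb400002) (nat_lit 29)
(Net.cons (nat_lit 0x33c80003364) (nat_lit 14)
(Net.cons (nat_lit 0x3500000048028) (nat_lit 7)
(Net.cons (nat_lit 0x304041810201) (nat_lit 4)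
(Net.cons (nat_lit 0x10) (nat_lit 2)
(Net.cons (nat_lit 0x40295000a00295) (nat_lit 1)
(Net.cons (nat_lit 0x880026200c993) (nat_lit 2)
(Net.cons (nat_lit 0x10307041810201) (nat_lit 4)
(Net.cons (nat_lit 0x35000000c8028) (nat_lit 7)
(Net.cons (nat_lit 0x7bc80003364) (nat_lit 14)
(Net.cons (nat_lit 0xb400002) (nat_lit 29)
Net.nil)))))))))))

noncomputable def n4 : Net :=
(Net.cons (nat_lit 0x878e462) (nat_lit 29)
(Net.cons (nat_lit 0x62c0000281c) (nat_lit 14)
(Net.cons (nat_lit 0x1600300100006) (nat_lit 7)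
(Net.cons (nat_lit 0x1c184041008107) (nat_lit 4)
(Net.cons (nat_lit 0x800000040010) (nat_lit 2)
(Net.cons (nat_lit 0x54a80000854810) (nat_lit 1)
(Net.cons (nat_lit 0xc803244040193) (nat_lit 2)
(Net.cons (nat_lit 0x1c184041008107) (nat_lit 4)
(Net.cons (nat_lit 0x1600380140006) (nat_lit 7)
(Net.cons (nat_lit 0x62c20003c1c) (nat_lit 14)
(Net.cons (nat_lit 0x878e462) (nat_lit 29)
Net.nil)))))))))))

noncomputable def n5 : Net :=
(Net.cons (nat_lit 0x710) (nat_lit 29)
(Net.cons (nat_lit 0x71f00000426) (nat_lit 14)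
(Net.cons (nat_lit 0x2500ac00d003c) (nat_lit 7)
(Net.cons (nat_lit 0x10206001010206) (nat_lit 4)
(Net.cons (nat_lit 0x40902200400102) (nat_lit 2)
(Net.cons (nat_lit 0x448942aa854094) (nat_lit 1)
(Net.cons (nat_lit 0xc813264644902) (nat_lit 2)
(Net.cons (nat_lit 0x430100120c306) (nat_lit 4)
(Net.cons (nat_lit 0x3280ac012c03c) (nat_lit 7)
(Net.cons (nat_lit 0x71f00000426) (nat_lit 14)
(Net.cons (nat_lit 0x710) (nat_lit 29)
Net.nil)))))))))))

noncomputable def n6 : Net :=
(Net.cons (nat_lit 0x5f3f3b0) (nat_lit 29)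
(Net.cons (nat_lit 0x75400000c28) (nat_lit 14)
(Net.cons (nat_lit 0x1600180120000) (nat_lit 7)
(Net.cons (nat_lit 0x83020c1804207) (nat_lit 4)
(Net.cons (nat_lit 0x40000200000900) (nat_lit 2)
(Net.cons (nat_lit 0x40a01288254a05) (nat_lit 1)
(Net.cons (nat_lit 0x48810006248890) (nat_lit 2)
(Net.cons (nat_lit 0x83020c1018307) (nat_lit 4)
(Net.cons (nat_lit 0x1680180040048) (nat_lit 7)
(Net.cons (nat_lit 0x79ec0001be8) (nat_lit 14)
(Net.cons (nat_lit 0x5f3f3b0) (nat_lit 29)
Net.nil)))))))))))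

noncomputable def T : List Net := [n0, n1, n2, n3, n4, n5, n6]

theorem ok : TOK 57 T := TOK_of_ok (by decide +kernel)

def E : List (List Nat × List Nat) :=
  []

theorem sat : Sat (sig T) R :=
  sat_of_relsP ok (by norm_num) (show relsP (nat_lit 57) (nat_lit 6) (nat_lit 0) (nat_lit 6) T R = true by decide +kernel)

theorem eqs : ∀ e ∈ E, ev (sig T) e.1 = ev (sig T) e.2 := eqs_nil _

def lowW1 : List (List Nat) := [[0],
   [1],
   [2],
   [3],
   [4],
   [5]]

def lowW2 : List (List Nat) := [[0],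
   [1],
   [2],
   [3],
   [4]]

def lowW3 : List (List Nat) := [[0],
   [1],
   [2],
   [3]]

def lowW4 : List (List Nat) := [[0]]

theorem low_4 : 2 ≤ Nat.card (genW (sig T) lowW4) :=
  chain_step (W' := []) (b := 37) (n := 2) (m := 1) ok (le_of_subOK eqs (show subOK lowW4 [] E = true by decide +kernel)) (by decide +kernel)
    (le_ncard_of_orbGe ok (by norm_num) (show orbGe (nat_lit 57) (nat_lit 6) T lowW4 [0] (nat_lit 37) (nat_lit 2) = true by decide +kernel))
    (chain_base ok [])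

theorem low_3 : 12 ≤ Nat.card (genW (sig T) lowW3) :=
  chain_step (W' := lowW4) (b := 49) (n := 6) (m := 2) ok (le_of_subOK eqs (show subOK lowW3 lowW4 E = true by decide +kernel)) (by decide +kernel)
    (le_ncard_of_orbGe ok (by norm_num) (show orbGe (nat_lit 57) (nat_lit 6) T lowW3 [1, 3, 1] (nat_lit 49) (nat_lit 6) = true by decide +kernel))
    low_4

theorem low_2 : 588 ≤ Nat.card (genW (sig T) lowW2) :=
  chain_step (W' := lowW3) (b := 2) (n := 49) (m := 12) ok (le_of_subOK eqs (show subOK lowW2 lowW3 E = true by decide +kernel)) (by decide +kernel)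
    (le_ncard_of_orbGe ok (by norm_num) (show orbGe (nat_lit 57) (nat_lit 6) T lowW2 [4, 0, 1, 3, 4, 1, 0, 1] (nat_lit 2) (nat_lit 49) = true by decide +kernel))
    low_3

theorem low_1 : 32928 ≤ Nat.card (genW (sig T) lowW1) :=
  chain_step (W' := lowW2) (b := 1) (n := 56) (m := 588) ok (le_of_subOK eqs (show subOK lowW1 lowW2 E = true by decide +kernel)) (by decide +kernel)
    (le_ncard_of_ivl (a := 1) ok (by norm_num) (show Nat.beq (grow T lowW1 [5, 4, 0, 1, 3, 4, 1, 0, 1, 5] (pt (nat_lit 1))) (ivl (nat_lit 1) (nat_lit 56)) = true by decide +kernel))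
    low_2

theorem low : 1876896 ≤ Nat.card (genW (sig T) (letters 7)) :=
  chain_step (W' := lowW1) (b := 0) (n := 57) (m := 32928) ok (le_of_subOK eqs (show subOK (letters 7) lowW1 E = true by decide +kernel)) (by decide +kernel)
    (le_ncard_of_ivl (a := 0) ok (by norm_num) (show Nat.beq (grow T (letters 7) [6, 4, 5, 0, 1, 4, 1, 0, 1, 5] (pt (nat_lit 0))) (ivl (nat_lit 0) (nat_lit 57)) = true by decide +kernel))
    low_1


end Cfsg.Agent.Comp.L37
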