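import Cfsg.Agent.Comp.L37.Up
import Cfsg.Agent.Comp.L37.Nets

set_option autoImplicit false
set_option maxRecDepth 100000

namespace Cfsg.Agent.Comp.L37
open Cfsg.Agent.Comp

def W0 : List (List Nat) := [[0],
[1],
[2],
[3],
[4],
[5]]

noncomputable def phi : G →* Equiv.Perm ℕ := (pres.rep ok sat).choose

theorem rep : Rep s 7 57 T phi := (pres.rep ok sat).choose_spec

theorem trans : ∀ i < 57, ∃ g, phi g 0 = i :=
  rep.trans (sch := [6, 4, 5, 0, 1, 4, 1, 0, 1, 5]) (by decide +kernel)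

theorem stab : (genW s W0).index = 57 ∧ ∀ g, g ∈ genW s W0 ↔ phi g 0 = 0 :=
  rep.stab_eq (by decide +kernel) (by norm_num) trans (by decide +kernel) (Top.index _ s pres.sat)

theorem orb1 : MulAction.orbit (genW (sig T) W0) 1 = Set.Ico 1 (1 + 56) ∧
    (MulAction.orbit (genW (sig T) W0) 1).ncard = 56 :=
  orbit_ivl (sch := [5, 4, 0, 1, 3, 4, 1, 0, 1, 5]) ok (by norm_num) (by norm_num) (by decide +kernel) (by decide +kernel)

namespace Col

noncomputable def t0 : Tr := (Tr.node (nat_lit 0) (Tr.leaf (nat_lit 0x889124bffffff0097ffffffffffffc3483b1fffffffffc025fffffffffe322156008fffc3b8057ffffffc32f15110b8154023fff0eb7fffffe1dc88884440adfff008fffffffffffffc3443a1fffffffffc023fffffffffe1222d3fffffffffe213ffffffc0a70511697fffffffff1097fffffe0524c809580200d512b7fffffe0640eb25409a5fff0080a5bfffffffff8a592202d0ffffffc021fffffffffc22a8d00c8ffffffffff00801840bc05a4481643ffffff2298c4fffe010189a140aa1fff28813486240100298c490202900cb7fffffe21000c8060020000fff9740b203101681840ba02d0))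
(Tr.leaf (nat_lit 0x7fffffffffffffffffffffffff8003fffffffffffffffffffffffffc001fffffffffffffffffffffffffe000ffffffffffffffffffffffffff0007fffffffffffffffffffffffff8003fffffffffffffffffffffffffc001fffffffffffffffffffffffffe000ffffffffffffffffffffffffff0007fffffffffffffffffffffffffc6502ba014fff8273fffffffff815e2a819cfff805013a096ffffffc0b9193151804ffffffffffffffffffff8a9924c5a60131d18e8c0ac0a01b1c44c827ffffff804fffffffffffffe1a61d9fffffffffe013ffffffffff152ffffffc0243e0ffffffc0adfff)))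

noncomputable def T : Tr := t0

def RT : List (List (List Nat)) := [
  [[nat_lit 5, nat_lit 3, nat_lit 0, nat_lit 5],
   [nat_lit 6, nat_lit 3, nat_lit 6],
   [nat_lit 4, nat_lit 6, nat_lit 5],
   [nat_lit 0],
   [nat_lit 3, nat_lit 0, nat_lit 3],
   [nat_lit 1, nat_lit 0, nat_lit 2],
   [nat_lit 2, nat_lit 0, nat_lit 1]],
  [[nat_lit 6, nat_lit 2, nat_lit 6],
   [nat_lit 2, nat_lit 2],
   [nat_lit 5, nat_lit 2, nat_lit 5],
   [nat_lit 3, nat_lit 1, nat_lit 3],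
   [nat_lit 1]],
  [[nat_lit 5, nat_lit 1, nat_lit 5],
   [nat_lit 3, nat_lit 2, nat_lit 3]],
  [[nat_lit 6, nat_lit 0, nat_lit 6],
   [nat_lit 0, nat_lit 5, nat_lit 0, nat_lit 5],
   [nat_lit 3]],
  [[nat_lit 0, nat_lit 5, nat_lit 6],
   [nat_lit 6, nat_lit 5, nat_lit 0],
   [nat_lit 4],
   [nat_lit 2, nat_lit 0, nat_lit 4, nat_lit 0, nat_lit 2, nat_lit 4, nat_lit 0, nat_lit 2]],
  [[nat_lit 0, nat_lit 4, nat_lit 6],
   [nat_lit 5]],
  [[nat_lit 5, nat_lit 0, nat_lit 4],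
   [nat_lit 4, nat_lit 0, nat_lit 5],
   [nat_lit 6]],
  [[nat_lit 0, nat_lit 5, nat_lit 0, nat_lit 5, nat_lit 3],
   [nat_lit 4, nat_lit 4],
   [nat_lit 6, nat_lit 5, nat_lit 6, nat_lit 5, nat_lit 6, nat_lit 5],
   [nat_lit 6, nat_lit 6],
   [nat_lit 3, nat_lit 3],
   [nat_lit 0, nat_lit 0],
   [nat_lit 5, nat_lit 5],
   [nat_lit 2, nat_lit 1],
   [nat_lit 1, nat_lit 2],
   [nat_lit 4, nat_lit 5, nat_lit 6, nat_lit 5, nat_lit 1, nat_lit 4, nat_lit 5, nat_lit 1, nat_lit 6, nat_lit 5],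
   [nat_lit 3, nat_lit 5, nat_lit 4, nat_lit 5, nat_lit 3, nat_lit 4, nat_lit 5, nat_lit 3, nat_lit 4],
   [nat_lit 4, nat_lit 0, nat_lit 2, nat_lit 4, nat_lit 2, nat_lit 0, nat_lit 4, nat_lit 0, nat_lit 2],
   [nat_lit 5, nat_lit 3, nat_lit 4, nat_lit 3, nat_lit 5, nat_lit 4, nat_lit 3, nat_lit 5, nat_lit 4]]]

def HT : List (List (Nat × Nat × Nat)) := [
  [(1, 15, 2), (0, 17, 1), (0, 0, 0), (0, 1, 0), (0, 10, 1), (0, 9, 1), (0, 9, 3)],
  [(1, 18, 0), (1, 8, 0), (1, 14, 0), (0, 11, 3), (0, 2, 0)],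
  [(0, 14, 1), (0, 11, 1)],
  [(0, 17, 3), (1, 15, 4), (0, 4, 0)],
  [(1, 0, 0), (0, 0, 1), (0, 5, 0), (1, 12, 7)],
  [(0, 0, 3), (0, 6, 0)],
  [(0, 0, 2), (1, 0, 3), (0, 7, 0)],
  [(1, 15, 4), (0, 5, 0), (0, 19, 1), (0, 7, 0), (0, 4, 0), (0, 1, 0), (0, 6, 0), (0, 2, 1), (0, 2, 0), (0, 20, 6), (1, 16, 8), (1, 12, 3), (0, 16, 8)]]

def R : List (List Nat) :=
  [[4, 6, 5, 0],
   [0, 0],
   [1, 2],
   [2, 1],
   [3, 3],
   [4, 4],
   [5, 5],
   [6, 6],
   [1, 1, 1],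
   [0, 1, 0, 2],
   [0, 3, 0, 3],
   [1, 3, 2, 3],
   [0, 1, 4, 1, 0, 4, 1, 0, 4],
   [0, 2, 3, 4, 0, 4, 3, 2, 4, 2, 4],
   [1, 5, 1, 5],
   [0, 3, 5, 0, 5],
   [3, 4, 3, 5, 4, 3, 5, 4, 5],
   [0, 6, 3, 6],
   [1, 6, 1, 6],
   [5, 6, 5, 6, 5, 6],
   [1, 4, 5, 1, 6, 5, 4, 5, 6, 5]]

def W : List (List Nat) := []

noncomputable def P : Par := ⟨T, (nat_lit 4), (nat_lit 15), (nat_lit 117), (nat_lit 13), (nat_lit 8191), (nat_lit 6), (nat_lit 63), (nat_lit 7), (nat_lit 17), (nat_lit 48), (nat_lit 0x8398a418440), RT⟩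

noncomputable def J0 : List Nat := [
  nat_lit 0x11c008f113c00931011c008b115c008b112c0087130614515a8008b10415d8008b115c8011b118c008f14e00087184630022c47f0022c45b0021c41004a00009cc4670023c6104670022c48b0022c41054a528011f16a46000d317a4a000cf1864e000c7184104119a0033c45e000cb10410610415195c8014f117c008f1041045f0022c6105298e0038c5760023c649380030c410576730032c426800c31844730045c528460036c41047b0022c410414a51800df14e11800d7104121c008b10410539460038c410418410411520035c410410610568000c711c85e00062c4970023c4104970022c418558000c311dc0034c49b0023c410578000c31658008b10611bc0033c410418410411520037c410410610414a013800026f1,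
  nat_lit 0x15a00032c41060800238020f18410410418410411520038c4104106104123802388e002a718e00031c609280032c568000c318e00010718e00030c6124c008b1002380009ac410410410618e57800df1724600040c41056800041c5d8000c3184126c0031c578000c710410496000c71061765e0001431041041041041041041041041041041041041041041041041041041041041041041041041041041041041041041041041041041041041]

theorem c0 : chk T (nat_lit 4) (nat_lit 15) (nat_lit 117) (nat_lit 13) (nat_lit 8191) (nat_lit 6) (nat_lit 63) (nat_lit 7) (nat_lit 17) (nat_lit 48) (nat_lit 0x8398a418440) (nat_lit 4) (nat_lit 15) RT (nat_lit 16) J0 (nat_lit 16) = true := by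
  decide +kernel

theorem r0 : P.RowsOK 16 48 := chk_sound P _ _ _ J0 _ _ (by decide +kernel) c0

theorem index.{u} : IndexLe.{u} 7 R W 1 :=
  indexLe_of_cert P HT (by decide +kernel)
    (show P.RowsOK 16 48 from r0)

end Col

theorem card : Finite G ∧ Nat.card G = 1876896 ∧ Function.Injective phi :=
  rep.card_eq up low

def primT : List (List Nat × List Nat) :=
  [([6], [0, 5, 6, 0, 2, 5, 4, 0, 5, 0, 2])]

theorem prim_0 : Nat.beq (grow T ([6] :: W0) [0, 5, 6, 0, 2, 5, 4, 0, 5, 0, 2] (pt (nat_lit 0))) (ivl (nat_lit 0) (nat_lit 57)) = true := by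
  decide +kernel

theorem prim : Prim (gen (sig T) 7) 0 :=
  prim_of_cert (W := W0) (ts := primT) (sch := [4, 5, 0, 1, 4, 1, 0, 1, 5]) ok (ok.genW_le _) (by norm_num) (genW_le_gen (by decide +kernel)) (by decide +kernel)
    (fun t ht => ev_mem fun x hx => letter_mem_gen ((by decide +kernel : ∀ t ∈ primT, ∀ x ∈ t.1, x < 7) t ht x hx)) (by decide +kernel)
    (by simp only [primT, List.forall_mem_cons]; exact ⟨prim_0, by simp⟩)

def XP : List (List Nat) := [[4, 6, 5, 0, 4, 6, 5, 0, 4, 6, 5, 0, 4, 6, 5, 0, 4, 6, 5, 0, 4, 6, 5, 0, 4, 6, 5, 0, 4, 6, 5, 0, 4, 6, 5, 0, 4, 6, 5, 0, 4, 6, 5, 0, 4, 6, 5, 0, 4, 6, 5, 0, 4, 6, 5, 0, 4, 6, 5, 0, 4, 6, 5, 0, 4, 6, 5, 0, 4, 6, 5, 0, 4, 6, 5, 0]]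

theorem satX : Sat (sig T) XP :=
  sat_of_relsP ok (by norm_num) (show relsP (nat_lit 57) (nat_lit 6) (nat_lit 0) (nat_lit 6) T XP = true by decide +kernel)

theorem simple : IsSimpleGroup G :=
  rep.simple (m := 32928) (p := 19) (X := [[4, 6, 5, 0]]) card.2.2 (by norm_num) (by norm_num) trans prim card.2.1 (by norm_num) pres.sat
    Col.index (by decide +kernel) (by decide +kernel) (satX.mono (by decide +kernel))


end Cfsg.Agent.Comp.L37
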