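import Cfsg.Agent.Comp.TC
import Cfsg.Agent.Comp.L37.Pres

set_option autoImplicit false
set_option maxRecDepth 100000

namespace Cfsg.Agent.Comp.L37.Top
open Cfsg.Agent.Comp

noncomputable def t0 : Tr := (Tr.node (nat_lit 1) (Tr.node (nat_lit 0) (Tr.leaf (nat_lit 0x852bfffc28f80150158105820e83970d430857fff91281c38005419380ab055044a60caffff092e0c580550015022e127c28c4214fffe02a46cf00140150029c05300a58329fffc2ca839b014800503908598022f0453fff869a0832086439081190028045a04a7fff0b28126814d05980028066808ab312fffe00483d080a30c32186c0d0859d6325fffc20e82920144004820f819d0336c44bfff80a1073a028024f8115002406698497fff0a36027c04f009d002406580ccb012fffe18641ca009c0136026804c80124523fffc08980110326084c189829303268847fff8098062e004404b8096012a02509887fff0020024c0490111042206440888000fffe02440480090012004400480090))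
(Tr.leaf (nat_lit 0xa443fffc5de883600422cd459f89b611554683fff902e1e5c16a001005a50e74109a8907fff204e46a429d0525225200801d4521ffffe2c8c616001f017e168c39a80bea23dfffc8d58e260a600e98194001e05414877fff8baa1368007405e80bc017624be98e7fff003844b485b903a214042b484f519cfffe46786d3852e003808781d5842da239fffc8568d2811720e78093001c03754273fff91201b5618c4215801c034e12ba80e7fff1f7438e841a84ad017418b800e521bfffe3acc69c801b124802e405c00b78431fffc5d60bb5003002d805a862c0169085ffff8eb20166005c3d800b2016202c218b7fff002c1c60057869a02301a6c30fc216fffe42987500016015c02b4894832b)))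
(Tr.node (nat_lit 2) (Tr.leaf (nat_lit 0xc359fffc51a0bbf197600b031b0aaf127980b3fff8ab615781d044de0634147a00b30d57fff185e2aec59e802a137c24d055ae12afffe2cec51f08c0127c04ec01509bfc155fffc55e0a3d1a7e22d001501bc126d8497fff8f251d4a12b47d486ae004a049f0927fff1a88329041388b9027000904e360a4fffe3b0c61c07b2127000900dc8745c049fffc6a10cc6205226dc4e307c50049468ffff8a3e0f5e03180118a2f0d7e22ee891ffff186a2c8c3d28aaf0d58008c51ed023fffe2afc51500c5107626f435f0023a545fffc7120022166625080e181c41067448bfff8e22018820e03e08131004407068517fff1e62030c2d30740004406c80e05022fffe390406104ab0e4403040600022))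
(Tr.leaf (nat_lit 0x1fffffffffffffffffffffffffffffe0003fffffffffffffffffffffffffffffc0007fffffffffffffffffffffffffffff8000ffffffffffffffffffffffffffffff0001fffffffffffffffffffffffffffffe0003fffffffffffffffffffffffffffffc0007ffffffffffffffffffffffffffffff2c1fffe31180208cc8118805081238848e581fffc66280401a8e210c16401420f8f88dbfff8cc8186e00d852309c5126e24e711a7fff1a8e2f1401a09c50e6e291835c62b2fffe36e40190ac4129004cc1218844c563fffc71c00311586231c16201330f878ac3fff8db70060270845981c70390210b0987fff1b60032035f0732028000c009960b0fffe3b00063883c0d6200c00e08131))))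

noncomputable def T : Tr := t0

def RT : List (List (List Nat)) := [
  [[nat_lit 2, nat_lit 0, nat_lit 1],
   [nat_lit 1, nat_lit 0, nat_lit 2],
   [nat_lit 3, nat_lit 0, nat_lit 3],
   [nat_lit 8],
   [nat_lit 6, nat_lit 3, nat_lit 6],
   [nat_lit 5, nat_lit 3, nat_lit 0, nat_lit 5],
   [nat_lit 1, nat_lit 4, nat_lit 1, nat_lit 0, nat_lit 4, nat_lit 1, nat_lit 0, nat_lit 4],
   [nat_lit 5, nat_lit 0, nat_lit 3, nat_lit 5],
   [nat_lit 4, nat_lit 0, nat_lit 1, nat_lit 4, nat_lit 1, nat_lit 0, nat_lit 4, nat_lit 1]],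
  [[nat_lit 5, nat_lit 2, nat_lit 5],
   [nat_lit 2, nat_lit 2],
   [nat_lit 8],
   [nat_lit 6, nat_lit 2, nat_lit 6],
   [nat_lit 0, nat_lit 1, nat_lit 0],
   [nat_lit 3, nat_lit 1, nat_lit 3],
   [nat_lit 4, nat_lit 0, nat_lit 2, nat_lit 4, nat_lit 2, nat_lit 0, nat_lit 4, nat_lit 0]],
  [[nat_lit 1, nat_lit 1],
   [nat_lit 3, nat_lit 2, nat_lit 3],
   [nat_lit 6, nat_lit 1, nat_lit 6],
   [nat_lit 5, nat_lit 1, nat_lit 5],
   [nat_lit 3, nat_lit 4, nat_lit 0, nat_lit 4, nat_lit 3, nat_lit 1, nat_lit 0, nat_lit 4, nat_lit 1, nat_lit 4],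
   [nat_lit 4, nat_lit 1, nat_lit 3, nat_lit 4, nat_lit 0, nat_lit 4, nat_lit 3, nat_lit 1, nat_lit 0, nat_lit 4],
   [nat_lit 0, nat_lit 2, nat_lit 0]],
  [[nat_lit 6, nat_lit 0, nat_lit 6],
   [nat_lit 8],
   [nat_lit 0, nat_lit 5, nat_lit 0, nat_lit 5],
   [nat_lit 1, nat_lit 3, nat_lit 2],
   [nat_lit 2, nat_lit 3, nat_lit 1],
   [nat_lit 0, nat_lit 3, nat_lit 0],
   [nat_lit 2, nat_lit 4, nat_lit 2, nat_lit 4, nat_lit 0, nat_lit 2, nat_lit 3, nat_lit 4, nat_lit 0, nat_lit 4],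
   [nat_lit 4, nat_lit 0, nat_lit 4, nat_lit 3, nat_lit 1, nat_lit 0, nat_lit 4, nat_lit 1, nat_lit 4, nat_lit 1]],
  [[nat_lit 1, nat_lit 0, nat_lit 4, nat_lit 0, nat_lit 1, nat_lit 4, nat_lit 1, nat_lit 0],
   [nat_lit 0, nat_lit 1, nat_lit 4, nat_lit 1, nat_lit 0, nat_lit 4, nat_lit 1, nat_lit 0],
   [nat_lit 0, nat_lit 4, nat_lit 3, nat_lit 1, nat_lit 0, nat_lit 4, nat_lit 1, nat_lit 4, nat_lit 1, nat_lit 3],
   [nat_lit 2, nat_lit 0, nat_lit 4, nat_lit 0, nat_lit 2, nat_lit 4, nat_lit 0, nat_lit 2],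
   [nat_lit 8],
   [nat_lit 5, nat_lit 6, nat_lit 2, nat_lit 5, nat_lit 4, nat_lit 2, nat_lit 5, nat_lit 6, nat_lit 5],
   [nat_lit 5, nat_lit 3, nat_lit 4, nat_lit 3, nat_lit 5, nat_lit 4, nat_lit 5, nat_lit 3],
   [nat_lit 2, nat_lit 4, nat_lit 0, nat_lit 2, nat_lit 3, nat_lit 4, nat_lit 0, nat_lit 4, nat_lit 3, nat_lit 2],
   [nat_lit 0, nat_lit 2, nat_lit 3, nat_lit 4, nat_lit 0, nat_lit 4, nat_lit 3, nat_lit 2, nat_lit 4, nat_lit 2],
   [nat_lit 3, nat_lit 5, nat_lit 4, nat_lit 3, nat_lit 5, nat_lit 4, nat_lit 5, nat_lit 3],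
   [nat_lit 5, nat_lit 3, nat_lit 4, nat_lit 5, nat_lit 3, nat_lit 4, nat_lit 3, nat_lit 5],
   [nat_lit 0, nat_lit 2, nat_lit 4, nat_lit 2, nat_lit 0, nat_lit 4, nat_lit 0, nat_lit 2]],
  [[nat_lit 8],
   [nat_lit 3, nat_lit 4, nat_lit 5, nat_lit 3, nat_lit 4, nat_lit 3, nat_lit 5, nat_lit 4],
   [nat_lit 2, nat_lit 5, nat_lit 2],
   [nat_lit 3, nat_lit 0, nat_lit 5, nat_lit 0],
   [nat_lit 0, nat_lit 5, nat_lit 3, nat_lit 0],
   [nat_lit 1, nat_lit 5, nat_lit 1],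
   [nat_lit 3, nat_lit 4, nat_lit 3, nat_lit 5, nat_lit 4, nat_lit 5, nat_lit 3, nat_lit 4],
   [nat_lit 4, nat_lit 5, nat_lit 3, nat_lit 4, nat_lit 5, nat_lit 3, nat_lit 4, nat_lit 3],
   [nat_lit 4, nat_lit 5, nat_lit 3, nat_lit 4, nat_lit 3, nat_lit 5, nat_lit 4, nat_lit 3]],
  [[nat_lit 5, nat_lit 6, nat_lit 5, nat_lit 6, nat_lit 5],
   [nat_lit 5, nat_lit 4, nat_lit 5, nat_lit 6, nat_lit 2, nat_lit 5, nat_lit 4, nat_lit 2, nat_lit 5],
   [nat_lit 2, nat_lit 6, nat_lit 2],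
   [nat_lit 3, nat_lit 6, nat_lit 0],
   [nat_lit 0, nat_lit 6, nat_lit 3],
   [nat_lit 1, nat_lit 6, nat_lit 1],
   [nat_lit 5, nat_lit 4, nat_lit 5, nat_lit 6, nat_lit 5, nat_lit 1, nat_lit 4, nat_lit 5, nat_lit 1],
   [nat_lit 2, nat_lit 5, nat_lit 4, nat_lit 2, nat_lit 5, nat_lit 6, nat_lit 5, nat_lit 4, nat_lit 5]],
  []]

def HT : List (List (Nat × Nat × Nat)) := [
  [(0, 8, 3), (0, 8, 1), (0, 9, 1), (2, 0, 0), (0, 16, 1), (1, 14, 2), (0, 11, 1), (0, 14, 4), (0, 11, 8)],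
  [(1, 13, 0), (1, 7, 0), (2, 1, 0), (1, 17, 0), (0, 8, 0), (0, 10, 3), (1, 11, 3)],
  [(0, 7, 0), (0, 10, 1), (0, 17, 1), (0, 13, 1), (1, 12, 4), (1, 12, 2), (0, 8, 2)],
  [(0, 16, 3), (2, 3, 0), (1, 14, 4), (0, 10, 0), (0, 10, 2), (0, 9, 0), (0, 12, 7), (1, 12, 5)],
  [(0, 11, 6), (0, 11, 0), (1, 12, 6), (1, 11, 7), (2, 4, 0), (1, 19, 4), (1, 15, 5), (0, 12, 9), (0, 12, 0), (0, 15, 2), (1, 15, 2), (1, 11, 4)],
  [(2, 5, 0), (1, 15, 3), (1, 13, 1), (1, 14, 3), (1, 14, 1), (0, 13, 0), (1, 15, 6), (1, 15, 1), (0, 15, 7)],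
  [(0, 18, 0), (1, 19, 2), (1, 17, 1), (0, 16, 2), (0, 16, 0), (0, 17, 0), (0, 19, 5), (1, 19, 6)],
  []]

def W : List (List Nat) := [[0],
   [1],
   [2],
   [3],
   [4],
   [5]]

noncomputable def P : Par := ⟨T, (nat_lit 4), (nat_lit 15), (nat_lit 135), (nat_lit 15), (nat_lit 32767), (nat_lit 7), (nat_lit 127), (nat_lit 7), (nat_lit 73), (nat_lit 80), (nat_lit 0x8398a418440), RT⟩

noncomputable def J0 : List Nat := [
  nat_lit 0x13c40012c400011c40014c40010c401650200841000084001720478481840001801008400141084800001000840cc10000008412085c0181384809dc1460841401000086801603841001000584141022508501,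
  nat_lit 0x859412347078410000840010000840010006840018401c1401008401c01084802801006848001473004841000085901884980141007085181384000141403841d01a60084101,
  nat_lit 0x8401500010084141010848001412000d85c18402400013849559c14008422018401ec101008565401084a5518138488c0c1008401181084981c0107287400184200000123386d241,
  nat_lit 0x20862810138498c0812006884017200c8501335088401a08786401a82785001920458501335588601041041041041041041041041041041041041041041041041041041041041041041041041041041041041]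

theorem c0 : chk T (nat_lit 4) (nat_lit 15) (nat_lit 135) (nat_lit 15) (nat_lit 32767) (nat_lit 7) (nat_lit 127) (nat_lit 7) (nat_lit 73) (nat_lit 80) (nat_lit 0x8398a418440) (nat_lit 4) (nat_lit 15) RT (nat_lit 16) J0 (nat_lit 16) = true := by
  decide +kernel

theorem r0 : P.RowsOK 16 80 := chk_sound P _ _ _ J0 _ _ (by decide +kernel) c0

theorem index.{u} : IndexLe.{u} 7 L37.R W 57 :=
  indexLe_of_cert P HT (by decide +kernel)
    (show P.RowsOK 16 80 from r0)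

end Cfsg.Agent.Comp.L37.Top
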