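import Cfsg.Agent.Comp.L37.Pres
import Cfsg.Agent.Comp.L37.Top

set_option autoImplicit false
set_option maxRecDepth 100000

namespace Cfsg.Agent.Comp.L37
open Cfsg.Agent.Comp

namespace Tk3

noncomputable def t0 : Tr := (Tr.leaf (nat_lit 0x1fffff800fffffc007ffffe003fffff001fffff800fffffc007ffffe003fffff001fffff800fffffc007ffffe003fffff001fffff800fffffe087ff020003ff831))

noncomputable def T : Tr := t0

def RT : List (List (List Nat)) := [
  [],
  []]

def HT : List (List (Nat × Nat × Nat)) := [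
  [],
  []]

def R : List (List Nat) :=
  [[0, 0]]

def W : List (List Nat) := []

noncomputable def P : Par := ⟨T, (nat_lit 4), (nat_lit 15), (nat_lit 33), (nat_lit 11), (nat_lit 2047), (nat_lit 5), (nat_lit 31), (nat_lit 1), (nat_lit 18), (nat_lit 32), (nat_lit 0x820), RT⟩

noncomputable def J0 : List Nat := [
  nat_lit 0x69249249249249249249249]

theorem c0 : chk T (nat_lit 4) (nat_lit 15) (nat_lit 33) (nat_lit 11) (nat_lit 2047) (nat_lit 5) (nat_lit 31) (nat_lit 1) (nat_lit 18) (nat_lit 32) (nat_lit 0x820) (nat_lit 1) (nat_lit 1) RT (nat_lit 16) J0 (nat_lit 16) = true := by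
  decide +kernel

theorem r0 : P.RowsOK 16 32 := chk_sound P _ _ _ J0 _ _ (by decide +kernel) c0

theorem index.{u} : IndexLe.{u} 1 R W 2 :=
  indexLe_of_cert P HT (by decide +kernel)
    (show P.RowsOK 16 32 from r0)

end Tk3

theorem upK_3 : CardLe (genW s [[0]]) 2 :=
  CardLe.tc (V' := []) (n := 2) (m := 1) [0] Tk3.index pres.sat (by decide +kernel) (by decide +kernel) (by decide +kernel) (cardLe_nil s)

namespace Tk2

noncomputable def t0 : Tr := (Tr.leaf (nat_lit 0xfffffffffffffff000fffffffffffffff000fffffffffffffff000fffffffffffffff000fffffffffffffff000fffffffffffffff000fffffffffffffff000fffffffffffffff000fffffffffffffff000fffffffffffffff872fff012094053075871fff0110530b5074470fff010075074053450fff035051010052430fff034010072051000fff033032031030))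

noncomputable def T : Tr := t0

def RT : List (List (List Nat)) := [
  [[nat_lit 5],
   [nat_lit 2, nat_lit 0, nat_lit 1],
   [nat_lit 1, nat_lit 0, nat_lit 2],
   [nat_lit 3, nat_lit 0, nat_lit 3]],
  [[nat_lit 3, nat_lit 1, nat_lit 3]],
  [[nat_lit 1, nat_lit 1],
   [nat_lit 3, nat_lit 2, nat_lit 3]],
  [],
  []]

def HT : List (List (Nat × Nat × Nat)) := [
  [(2, 0, 0), (0, 5, 3), (0, 5, 1), (0, 6, 1)],
  [(0, 7, 3)],
  [(0, 4, 0), (0, 7, 1)],
  [],
  []]

def R : List (List Nat) :=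
  [[0, 0],
   [1, 2],
   [2, 1],
   [3, 3],
   [1, 1, 1],
   [0, 1, 0, 2],
   [0, 3, 0, 3],
   [1, 3, 2, 3]]

def W : List (List Nat) := [[0]]

noncomputable def P : Par := ⟨T, (nat_lit 4), (nat_lit 15), (nat_lit 72), (nat_lit 12), (nat_lit 4095), (nat_lit 5), (nat_lit 31), (nat_lit 4), (nat_lit 22), (nat_lit 32), (nat_lit 0xa418440), RT⟩

noncomputable def J0 : List Nat := [
  nat_lit 0x8c8002c44064500d0221a1c435288421084210842108421084210842108421084210842108421084210842108421]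

theorem c0 : chk T (nat_lit 4) (nat_lit 15) (nat_lit 72) (nat_lit 12) (nat_lit 4095) (nat_lit 5) (nat_lit 31) (nat_lit 4) (nat_lit 22) (nat_lit 32) (nat_lit 0xa418440) (nat_lit 3) (nat_lit 7) RT (nat_lit 16) J0 (nat_lit 16) = true := by
  decide +kernel

theorem r0 : P.RowsOK 16 32 := chk_sound P _ _ _ J0 _ _ (by decide +kernel) c0

theorem index.{u} : IndexLe.{u} 4 R W 6 :=
  indexLe_of_cert P HT (by decide +kernel)
    (show P.RowsOK 16 32 from r0)

end Tk2

theorem upK_2 : CardLe (genW s [[0], [1], [2], [3]]) 12 :=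
  CardLe.tc (V' := [[0]]) (n := 6) (m := 2) [0, 1, 2, 3] Tk2.index pres.sat (by decide +kernel) (by decide +kernel) (by decide +kernel) upK_3

namespace Tk1

noncomputable def t0 : Tr := (Tr.node (nat_lit 1) (Tr.node (nat_lit 0) (Tr.leaf (nat_lit 0x832dfffc057801602300a800cd3215fffe005465600ae015a02b190a7fff002802ac05502a70550c653fff80a90028086808a82206427fffc009822401500694053b193fffe029800981150538087d9097fff0024029405200a30144c64bfff80a1002406800cf81156225fffc08b00a0022c004808a3092fffe065c04f8012032e044d0c8ffff013c00440ce019a03308447fff809d0138044c00881974123fffc04d809a002206500cb2011fffe026404c0097012c00449087fff0020025404a009301240003fff8091012004400480090))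
(Tr.leaf (nat_lit 0xa43ffffc00f80be136a08a405ec11efffe32c865e012d003c06f204f7fff154630ec00f01ae0377007bfff8b28183c02f005d801e833bfffc292801d0b441cd01d1c11dfffe12d02910327003a0e9610e7fff003802e81578a350173046ffff8bac06460a9400d821d8037fffc39883b4043a0ea800dc21afffe006805c00b7016c06c20ccffff0956006408d832808550467fff88b30536048c00c81b48133fffc59683a800320690215c019fffe02d425500b40c56006610c7fff0030248405980b20163065ffff80b0002e087c08c019c)))
(Tr.node (nat_lit 2) (Tr.leaf (nat_lit 0xc163fffc19e89bf0062070009961affffe29000178ab0057432db017ffff077e38d875c02b9005f44b3fff82b9185c04ec016012ea159fffc15b8bad005806f0096d1a9fffe38d8014833e166036de814ffff067838dc19e90380053469bfff8fb8004c3ee479e8d35a24dfffc19d8eb9026c009869d50a6fffe36e86de8026036e34fa9117fff004430c04d4892f1971448bfff842a064e1aac0110124a243fffc41208b3026400840e050a1fffe30b84990021036606fe810ffff0f4e26c406000bf00434883fff8020176a2ee859f0126))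
(Tr.leaf (nat_lit 0x1ffffffffffffffffffffff8000ffffffffffffffffffffffc0007fffffffffffffffffffffe0003ffffffffffffffffffffff0001ffffffffffffffffffffff8000ffffffffffffffffffffffc0007fffffffffffffffffffffe0003ffffffffffffffffffffff0001ffffffffffffffffffffff8000ffffffffffffffffffffffc0007fffffffffffffffffffffe0003ffffffffffffffffffffff0001ffffffffffffffffffffff8000ffffffffffffffffffffffc0007ffffffffffffffffffffff84c7fff89be128004fc0188133))))

noncomputable def T : Tr := t0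

def RT : List (List (List Nat)) := [
  [[nat_lit 2, nat_lit 0, nat_lit 1],
   [nat_lit 1, nat_lit 0, nat_lit 2],
   [nat_lit 3, nat_lit 0, nat_lit 3],
   [nat_lit 6],
   [nat_lit 1, nat_lit 4, nat_lit 1, nat_lit 0, nat_lit 4, nat_lit 1, nat_lit 0, nat_lit 4],
   [nat_lit 4, nat_lit 3, nat_lit 1, nat_lit 0, nat_lit 4, nat_lit 1, nat_lit 4, nat_lit 1, nat_lit 3, nat_lit 4],
   [nat_lit 4, nat_lit 0, nat_lit 2, nat_lit 4, nat_lit 0, nat_lit 2, nat_lit 4, nat_lit 2],
   [nat_lit 4, nat_lit 0, nat_lit 1, nat_lit 4, nat_lit 1, nat_lit 0, nat_lit 4, nat_lit 1]],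
  [[nat_lit 3, nat_lit 1, nat_lit 3],
   [nat_lit 4, nat_lit 0, nat_lit 2, nat_lit 3, nat_lit 4, nat_lit 0, nat_lit 4, nat_lit 3, nat_lit 2, nat_lit 4],
   [nat_lit 0, nat_lit 1, nat_lit 0],
   [nat_lit 6],
   [nat_lit 4, nat_lit 2, nat_lit 0, nat_lit 4, nat_lit 0, nat_lit 2, nat_lit 4, nat_lit 0],
   [nat_lit 2, nat_lit 2]],
  [[nat_lit 1, nat_lit 1],
   [nat_lit 3, nat_lit 2, nat_lit 3],
   [nat_lit 0, nat_lit 4, nat_lit 1, nat_lit 0, nat_lit 4, nat_lit 0, nat_lit 1, nat_lit 4],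
   [nat_lit 3, nat_lit 4, nat_lit 0, nat_lit 4, nat_lit 3, nat_lit 1, nat_lit 0, nat_lit 4, nat_lit 1, nat_lit 4],
   [nat_lit 0, nat_lit 4, nat_lit 1, nat_lit 4, nat_lit 1, nat_lit 3, nat_lit 4, nat_lit 0, nat_lit 4, nat_lit 3],
   [nat_lit 4, nat_lit 1, nat_lit 0, nat_lit 4, nat_lit 1, nat_lit 0, nat_lit 4, nat_lit 0]],
  [[nat_lit 6],
   [nat_lit 1, nat_lit 3, nat_lit 2],
   [nat_lit 2, nat_lit 3, nat_lit 1],
   [nat_lit 0, nat_lit 3, nat_lit 0],
   [nat_lit 2, nat_lit 4, nat_lit 2, nat_lit 4, nat_lit 0, nat_lit 2, nat_lit 3, nat_lit 4, nat_lit 0, nat_lit 4],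
   [nat_lit 4, nat_lit 0, nat_lit 4, nat_lit 3, nat_lit 2, nat_lit 4, nat_lit 2, nat_lit 4, nat_lit 0, nat_lit 2]],
  [[nat_lit 0, nat_lit 1, nat_lit 4, nat_lit 1, nat_lit 0, nat_lit 4, nat_lit 1, nat_lit 0],
   [nat_lit 0, nat_lit 2, nat_lit 4, nat_lit 0, nat_lit 2, nat_lit 4, nat_lit 2, nat_lit 0],
   [nat_lit 1, nat_lit 0, nat_lit 4, nat_lit 1, nat_lit 0, nat_lit 4, nat_lit 0, nat_lit 1],
   [nat_lit 0, nat_lit 2, nat_lit 4, nat_lit 2, nat_lit 0, nat_lit 4, nat_lit 0, nat_lit 2],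
   [nat_lit 1, nat_lit 0, nat_lit 4, nat_lit 0, nat_lit 1, nat_lit 4, nat_lit 1, nat_lit 0],
   [nat_lit 3, nat_lit 2, nat_lit 4, nat_lit 2, nat_lit 4, nat_lit 0, nat_lit 2, nat_lit 3, nat_lit 4, nat_lit 0],
   [nat_lit 0, nat_lit 4, nat_lit 3, nat_lit 1, nat_lit 0, nat_lit 4, nat_lit 1, nat_lit 4, nat_lit 1, nat_lit 3]],
  []]

def HT : List (List (Nat × Nat × Nat)) := [
  [(0, 6, 3), (0, 6, 1), (0, 7, 1), (2, 0, 0), (0, 9, 1), (1, 10, 7), (1, 9, 0), (0, 9, 8)],
  [(0, 8, 3), (0, 10, 10), (0, 6, 0), (2, 1, 0), (1, 9, 6), (1, 5, 0)],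
  [(0, 5, 0), (0, 8, 1), (0, 9, 4), (1, 10, 4), (1, 10, 10), (0, 9, 2)],
  [(2, 3, 0), (0, 8, 0), (0, 8, 2), (0, 7, 0), (0, 10, 7), (0, 10, 3)],
  [(0, 9, 0), (1, 9, 1), (0, 9, 3), (1, 9, 4), (0, 9, 6), (0, 10, 6), (1, 10, 6)],
  []]

def R : List (List Nat) :=
  [[0, 0],
   [1, 2],
   [2, 1],
   [3, 3],
   [4, 4],
   [1, 1, 1],
   [0, 1, 0, 2],
   [0, 3, 0, 3],
   [1, 3, 2, 3],
   [0, 1, 4, 1, 0, 4, 1, 0, 4],
   [0, 2, 3, 4, 0, 4, 3, 2, 4, 2, 4]]

def W : List (List Nat) := [[0],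
   [1],
   [2],
   [3]]

noncomputable def P : Par := ⟨T, (nat_lit 4), (nat_lit 15), (nat_lit 105), (nat_lit 15), (nat_lit 32767), (nat_lit 7), (nat_lit 127), (nat_lit 5), (nat_lit 65), (nat_lit 80), (nat_lit 0x18a418440), RT⟩

noncomputable def J0 : List Nat := [
  nat_lit 0x13c40013c400010c401000084184000010084001084800100084012084001384810140084010000841003840100038410228401000084100008414038401,
  nat_lit 0x422840100048418401401008400108480010058581000084184101c168590010000841284800140384018400d81008418108480010300841,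
  nat_lit 0x700384184010010084d410849d813849501462084100854c1984800100285818401401070840120859413849081850c00182784012084cc1,
  nat_lit 0x3849601041041041041041041041041041041041041041041041041041041041041041041041041041041041041041041041041041041041041041041041041041041041041041]

theorem c0 : chk T (nat_lit 4) (nat_lit 15) (nat_lit 105) (nat_lit 15) (nat_lit 32767) (nat_lit 7) (nat_lit 127) (nat_lit 5) (nat_lit 65) (nat_lit 80) (nat_lit 0x18a418440) (nat_lit 4) (nat_lit 15) RT (nat_lit 16) J0 (nat_lit 16) = true := by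
  decide +kernel

theorem r0 : P.RowsOK 16 80 := chk_sound P _ _ _ J0 _ _ (by decide +kernel) c0

theorem index.{u} : IndexLe.{u} 5 R W 49 :=
  indexLe_of_cert P HT (by decide +kernel)
    (show P.RowsOK 16 80 from r0)

end Tk1

theorem upK_1 : CardLe (genW s [[0], [1], [2], [3], [4]]) 588 :=
  CardLe.tc (V' := [[0], [1], [2], [3]]) (n := 49) (m := 12) [0, 1, 2, 3, 4] Tk1.index pres.sat (by decide +kernel) (by decide +kernel) (by decide +kernel) upK_2

namespace Tk0

noncomputable def t0 : Tr := (Tr.node (nat_lit 1) (Tr.node (nat_lit 0) (Tr.leaf (nat_lit 0x842dfffc05800160d5a02bc05700ad842bfffc8cf0015015802ac19403298529fffc00a00aa052a0a6c10b03a18429fffc8cd0014064a02a415300a88329fffc0ca80a70028045818e82208427fffc88e0013014c029405200a38327fffc10c80a2002606840d001168227fffc14b82170142045c00981158127fffc18c02980140004c0cc01146325fffc089009f00240a740cd81996225fffc10d809e063a045000901986125fffc04e809c013600480ca81976025fffc109809a0132026004b80124423fffc0cb0011012c025404a00932521fffc0080092032208440c881110001fffc0488090012004400480090))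
(Tr.leaf (nat_lit 0xa23ffffc06106b40d7e04b800f81bfa13ffffc06083a40c7c007c0d781bea03ffffc06004a90c3e02fc05f001fa33dfffc8d605a6003c188c3db0424a23dfffc85405360b460ea000f0426a43bfffc715001d017a36c469b80bca239fffc952052d07480c9800e029ea039fffc8958533096c0a78215801ca437fffc05d801b017402e405c02b2a335fffc912852c003408701d484aba235fffc8d308b50738049000d01b6a135fffc914842e085200680d284aca035fffc85b00b70a5602d8356001aa433fffc85a8019134402d405a00b3a331fffc15000b20030088008c831da32ffffc19080b1002e0464150819b)))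
(Tr.node (nat_lit 2) (Tr.leaf (nat_lit 0xc25bfffc0638d3c0c5e04f8016812fc15bfffc06302b90b5c00b40df812ec355fffc79e8f3800543d0c6d90f39c055fffc71c8dbf1c7238ec6dd002ac54ffffc0138ec416702ce86de04b1c34ffffc51c0c3a004e34f05dd8c37c24ffffc6de033e1d7804e00138ebdc14ffffc55d0ebd1576009c0dc8a43c447fffc5d88023166432a82188bbac247fffc89184ab08501cb00118125c245fffc8110825126a04d001101c5c145fffc7da062f136800880da81c4c045fffc7e285a8146603140620022c443fffc2218021156e38f45218227c441fffc61b8020018612dc695043ba53ffffc00f8fb0108007040e10730))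
(Tr.leaf (nat_lit 0x1ffffffffffffffffffffffffff0001ffffffffffffffffffffffffff0001ffffffffffffffffffffffffff0001ffffffffffffffffffffffffff0001ffffffffffffffffffffffffff0001ffffffffffffffffffffffffff0001ffffffffffffffffffffffffff0001ffffffffffffffffffffffffffe57ffffc01f90470f8405001230747e57dfffc01f13460e820b1c0a006c6e267fffc81988c3138a05100198135e167fffc7a20e3b148800cc0e28134e363fffc1d90945006226c875e89b8c55ffffc0178f42108e04c01208742c55dfffc0170f410f8c0b0809806c1c55bfffc01688c00f6007180e38740))))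

noncomputable def T : Tr := t0

def RT : List (List (List Nat)) := [
  [[nat_lit 2, nat_lit 0, nat_lit 1],
   [nat_lit 1, nat_lit 0, nat_lit 2],
   [nat_lit 3, nat_lit 0, nat_lit 3],
   [nat_lit 7],
   [nat_lit 4, nat_lit 3, nat_lit 1, nat_lit 0, nat_lit 4, nat_lit 1, nat_lit 4, nat_lit 1, nat_lit 3, nat_lit 4],
   [nat_lit 5, nat_lit 0, nat_lit 3, nat_lit 5],
   [nat_lit 1, nat_lit 4, nat_lit 1, nat_lit 0, nat_lit 4, nat_lit 1, nat_lit 0, nat_lit 4],
   [nat_lit 4, nat_lit 0, nat_lit 2, nat_lit 4, nat_lit 0, nat_lit 2, nat_lit 4, nat_lit 2],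
   [nat_lit 5, nat_lit 3, nat_lit 0, nat_lit 5],
   [nat_lit 3, nat_lit 5, nat_lit 0, nat_lit 5]],
  [[nat_lit 3, nat_lit 1, nat_lit 3],
   [nat_lit 5, nat_lit 2, nat_lit 5],
   [nat_lit 2, nat_lit 2],
   [nat_lit 7],
   [nat_lit 4, nat_lit 0, nat_lit 2, nat_lit 3, nat_lit 4, nat_lit 0, nat_lit 4, nat_lit 3, nat_lit 2, nat_lit 4]],
  [[nat_lit 1, nat_lit 1],
   [nat_lit 3, nat_lit 2, nat_lit 3],
   [nat_lit 5, nat_lit 1, nat_lit 5],
   [nat_lit 0, nat_lit 4, nat_lit 1, nat_lit 0, nat_lit 4, nat_lit 0, nat_lit 1, nat_lit 4],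
   [nat_lit 3, nat_lit 4, nat_lit 0, nat_lit 4, nat_lit 3, nat_lit 1, nat_lit 0, nat_lit 4, nat_lit 1, nat_lit 4],
   [nat_lit 4, nat_lit 1, nat_lit 0, nat_lit 4, nat_lit 1, nat_lit 0, nat_lit 4, nat_lit 0],
   [nat_lit 0, nat_lit 4, nat_lit 0, nat_lit 1, nat_lit 4, nat_lit 1, nat_lit 0, nat_lit 4],
   [nat_lit 0, nat_lit 2, nat_lit 0]],
  [[nat_lit 7],
   [nat_lit 0, nat_lit 5, nat_lit 0, nat_lit 5],
   [nat_lit 1, nat_lit 3, nat_lit 2],
   [nat_lit 2, nat_lit 3, nat_lit 1],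
   [nat_lit 0, nat_lit 3, nat_lit 0],
   [nat_lit 1, nat_lit 0, nat_lit 4, nat_lit 1, nat_lit 4, nat_lit 1, nat_lit 3, nat_lit 4, nat_lit 0, nat_lit 4],
   [nat_lit 2, nat_lit 4, nat_lit 2, nat_lit 4, nat_lit 0, nat_lit 2, nat_lit 3, nat_lit 4, nat_lit 0, nat_lit 4]],
  [[nat_lit 2, nat_lit 0, nat_lit 4, nat_lit 0, nat_lit 2, nat_lit 4, nat_lit 0, nat_lit 2],
   [nat_lit 1, nat_lit 0, nat_lit 4, nat_lit 0, nat_lit 1, nat_lit 4, nat_lit 1, nat_lit 0],
   [nat_lit 1, nat_lit 0, nat_lit 4, nat_lit 1, nat_lit 0, nat_lit 4, nat_lit 0, nat_lit 1],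
   [nat_lit 0, nat_lit 4, nat_lit 3, nat_lit 1, nat_lit 0, nat_lit 4, nat_lit 1, nat_lit 4, nat_lit 1, nat_lit 3],
   [nat_lit 2, nat_lit 4, nat_lit 0, nat_lit 2, nat_lit 3, nat_lit 4, nat_lit 0, nat_lit 4, nat_lit 3, nat_lit 2],
   [nat_lit 3, nat_lit 1, nat_lit 0, nat_lit 4, nat_lit 1, nat_lit 4, nat_lit 1, nat_lit 3, nat_lit 4, nat_lit 0],
   [nat_lit 1, nat_lit 4, nat_lit 1, nat_lit 3, nat_lit 4, nat_lit 0, nat_lit 4, nat_lit 3, nat_lit 1, nat_lit 0],
   [nat_lit 0, nat_lit 2, nat_lit 4, nat_lit 2, nat_lit 0, nat_lit 4, nat_lit 0, nat_lit 2],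
   [nat_lit 3, nat_lit 2, nat_lit 4, nat_lit 2, nat_lit 4, nat_lit 0, nat_lit 2, nat_lit 3, nat_lit 4, nat_lit 0],
   [nat_lit 7],
   [nat_lit 5, nat_lit 3, nat_lit 4, nat_lit 3, nat_lit 5, nat_lit 4, nat_lit 5, nat_lit 3],
   [nat_lit 0, nat_lit 2, nat_lit 4, nat_lit 0, nat_lit 2, nat_lit 4, nat_lit 2, nat_lit 0],
   [nat_lit 5, nat_lit 3, nat_lit 4, nat_lit 5, nat_lit 3, nat_lit 4, nat_lit 3, nat_lit 5]],
  [[nat_lit 3, nat_lit 4, nat_lit 5, nat_lit 3, nat_lit 4, nat_lit 3, nat_lit 5, nat_lit 4],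
   [nat_lit 2, nat_lit 5, nat_lit 2],
   [nat_lit 3, nat_lit 0, nat_lit 5, nat_lit 0],
   [nat_lit 0, nat_lit 5, nat_lit 3, nat_lit 0],
   [nat_lit 1, nat_lit 5, nat_lit 1],
   [nat_lit 3, nat_lit 4, nat_lit 3, nat_lit 5, nat_lit 4, nat_lit 5, nat_lit 3, nat_lit 4],
   [nat_lit 4, nat_lit 5, nat_lit 3, nat_lit 4, nat_lit 3, nat_lit 5, nat_lit 4, nat_lit 3],
   [nat_lit 0, nat_lit 3, nat_lit 5, nat_lit 0]],
  []]

def HT : List (List (Nat × Nat × Nat)) := [
  [(0, 7, 3), (0, 7, 1), (0, 8, 1), (2, 0, 0), (1, 11, 7), (0, 13, 4), (0, 10, 1), (1, 10, 0), (1, 13, 2), (0, 13, 1)],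
  [(0, 9, 3), (1, 12, 0), (1, 6, 0), (2, 1, 0), (0, 11, 10)],
  [(0, 6, 0), (0, 9, 1), (0, 12, 1), (0, 10, 4), (1, 11, 4), (0, 10, 2), (0, 10, 7), (0, 7, 2)],
  [(2, 3, 0), (1, 13, 4), (0, 9, 0), (0, 9, 2), (0, 8, 0), (1, 11, 9), (0, 11, 7)],
  [(1, 10, 7), (0, 10, 6), (0, 10, 3), (1, 11, 6), (0, 11, 9), (1, 11, 8), (1, 11, 1), (1, 10, 4), (0, 11, 6), (2, 4, 0), (1, 14, 5), (1, 10, 1), (1, 14, 2)],
  [(1, 14, 3), (1, 12, 1), (1, 13, 3), (1, 13, 1), (0, 12, 0), (1, 14, 6), (0, 14, 7), (0, 13, 0)],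
  []]

def R : List (List Nat) :=
  [[0, 0],
   [1, 2],
   [2, 1],
   [3, 3],
   [4, 4],
   [5, 5],
   [1, 1, 1],
   [0, 1, 0, 2],
   [0, 3, 0, 3],
   [1, 3, 2, 3],
   [0, 1, 4, 1, 0, 4, 1, 0, 4],
   [0, 2, 3, 4, 0, 4, 3, 2, 4, 2, 4],
   [1, 5, 1, 5],
   [0, 3, 5, 0, 5],
   [3, 4, 3, 5, 4, 3, 5, 4, 5]]

def W : List (List Nat) := [[0],
   [1],
   [2],
   [3],
   [4]]

noncomputable def P : Par := ⟨T, (nat_lit 4), (nat_lit 15), (nat_lit 120), (nat_lit 15), (nat_lit 32767), (nat_lit 7), (nat_lit 127), (nat_lit 6), (nat_lit 72), (nat_lit 80), (nat_lit 0x398a418440), RT⟩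

noncomputable def J0 : List Nat := [
  nat_lit 0x13c40013c400010c40019c4017303084100008401840001410084000108480001000840812084000138480d814008410100008641003840c100048401032408410000858100008401,
  nat_lit 0x40384001322841810005840184018201008401810848010100684c010000840184141c0188494001000084c12848008140384181840114010084180108480001,
  nat_lit 0x20002841b40084016004840184014181008525010849e0c138499001468084810084e401384800c1009869010440084184010001020841812086080138497401,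
  nat_lit 0x2005c841a300c8413440e84194784081208535c1384994017303c8413444c841041041041041041041041041041041041041041041041041041041041041041041041041041041041041]

theorem c0 : chk T (nat_lit 4) (nat_lit 15) (nat_lit 120) (nat_lit 15) (nat_lit 32767) (nat_lit 7) (nat_lit 127) (nat_lit 6) (nat_lit 72) (nat_lit 80) (nat_lit 0x398a418440) (nat_lit 4) (nat_lit 15) RT (nat_lit 16) J0 (nat_lit 16) = true := by
  decide +kernel

theorem r0 : P.RowsOK 16 80 := chk_sound P _ _ _ J0 _ _ (by decide +kernel) c0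

theorem index.{u} : IndexLe.{u} 6 R W 56 :=
  indexLe_of_cert P HT (by decide +kernel)
    (show P.RowsOK 16 80 from r0)

end Tk0

theorem upK : CardLe (genW s [[0], [1], [2], [3], [4], [5]]) 32928 :=
  CardLe.tc (V' := [[0], [1], [2], [3], [4]]) (n := 56) (m := 588) [0, 1, 2, 3, 4, 5] Tk0.index pres.sat (by decide +kernel) (by decide +kernel) (by decide +kernel) upK_1

theorem up : CardLe (gen s 7) 1876896 := upK.step (Top.index _ s pres.sat)

end Cfsg.Agent.Comp.L37
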